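import Groth.Prelude.Def_NonAbH1
import Mathlib.GroupTheory.FreeGroup.Basic
import Mathlib.CategoryTheory.Sites.CoversTop.Basic
import Mathlib.Tactic.Group

/-!
Čech classes of torsors under a sheaf of groups: uniqueness, comparison and the twisted torsor.
-/

universe w' w v u

open CategoryTheory Opposite

namespace Groth.Agent.CechTorsor

variable {C : Type u} [Category.{v} C] {J : GrothendieckTopology C} {G : Sheaf J GrpCat.{w}}

/-- Restriction of a section of the sheaf of groups. -/
theorem map_map {V : C} (g : (G.obj.obj (op V))) {T T' : C} (f : T ⟶ V) (h : T' ⟶ T) :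
    G.obj.map h.op (G.obj.map f.op g) = G.obj.map (h ≫ f).op g := by
  rw [op_comp, Functor.map_comp]
  rfl

theorem group_sep {V : C} (S : Sieve V) (hS : S ∈ J V) {g g' : G.obj.obj (op V)}
    (h : ∀ ⦃T : C⦄ (f : T ⟶ V), S f → G.obj.map f.op g = G.obj.map f.op g') : g = g' := by
  let E := GrpCat.of (FreeGroup PUnit.{w+1})
  let φ : ∀ {U : C}, G.obj.obj (op U) → (E ⟶ G.obj.obj (op U)) := fun x =>
    GrpCat.ofHom (FreeGroup.lift fun _ => x)
  have hnat : ∀ {T : C} (f : T ⟶ V) (x : G.obj.obj (op V)),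
      φ x ≫ G.obj.map f.op = φ (G.obj.map f.op x) := fun f x => GrpCat.hom_ext <| by
    ext; simp [φ]
  have := ((G.property E) S hS).isSeparatedFor.ext
    (t₁ := φ g) (t₂ := φ g') fun T f hf => by
      show φ g ≫ G.obj.map f.op = φ g' ≫ G.obj.map f.op
      rw [hnat, hnat, h f hf]
  have h2 := congrArg (fun k : E ⟶ G.obj.obj (op V) => k (FreeGroup.of PUnit.unit)) this
  simpa [φ, E, FreeGroup.lift_apply_of] using h2

theorem group_glue {V : C} (S : Sieve V) (hS : S ∈ J V)
    (x : ∀ ⦃T : C⦄ (f : T ⟶ V), S f → G.obj.obj (op T))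
    (hx : ∀ ⦃T T' : C⦄ (f : T ⟶ V) (hf : S f) (h : T' ⟶ T),
      G.obj.map h.op (x f hf) = x (h ≫ f) (S.downward_closed hf h)) :
    ∃ g : G.obj.obj (op V), ∀ ⦃T : C⦄ (f : T ⟶ V) (hf : S f), G.obj.map f.op g = x f hf := by
  let E := GrpCat.of (FreeGroup PUnit.{w+1})
  let φ : ∀ {U : C}, G.obj.obj (op U) → (E ⟶ G.obj.obj (op U)) := fun x =>
    GrpCat.ofHom (FreeGroup.lift fun _ => x)
  let fam : Presieve.FamilyOfElements (G.obj ⋙ coyoneda.obj (op E)) S.arrows :=
    fun _ f hf => φ (x f hf)
  have hc : fam.Compatible := by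
    rw [Presieve.compatible_iff_sieveCompatible]
    intro T T' f h hf
    show φ _ = φ (x f hf) ≫ G.obj.map h.op
    refine GrpCat.hom_ext ?_
    ext
    simp [φ, hx f hf h]
  obtain ⟨t, ht, -⟩ := (G.property E) S hS fam hc
  let t' : E ⟶ G.obj.obj (op V) := t
  refine ⟨t' (FreeGroup.of PUnit.unit), fun T f hf => ?_⟩
  have := congrArg (fun k : E ⟶ G.obj.obj (op T) => k (FreeGroup.of PUnit.unit)) (ht f hf)
  simpa [φ, fam, t', E, FreeGroup.lift_apply_of] using this

theorem set_sep (P : Sheaf J (Type w)) {V : C} (S : Sieve V) (hS : S ∈ J V) {p p' : P.obj.obj (op V)}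
    (h : ∀ ⦃T : C⦄ (f : T ⟶ V), S f → P.obj.map f.op p = P.obj.map f.op p') : p = p' :=
  (((isSheaf_iff_isSheaf_of_type _ _).1 P.property) S hS).isSeparatedFor.ext fun _ f hf => h f hf

open NonAbH1

variable {I : Type w'} {U : I → C}

/-- Two equivariant morphisms out of a pseudo-torsor agree as soon as they agree on a family of sections. -/
theorem hom_ext (hU : J.CoversTop U) {P Q : GSheaf G} (hP : P.IsPseudoTorsor)
    (s : ∀ i, P.P.obj.obj (op (U i))) {f g : P ⟶ Q}
    (h : ∀ i, f.hom.hom.app _ (s i) = g.hom.hom.app _ (s i)) : f = g := by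
  apply GSheaf.hom_ext
  apply Sheaf.hom_ext
  ext ⟨V⟩ p
  show f.hom.hom.app (op V) p = g.hom.hom.app (op V) p
  refine set_sep Q.P _ (hU V) fun T k hk => ?_
  obtain ⟨i, ⟨a⟩⟩ := hk
  obtain ⟨c, hc, -⟩ := hP (op T) (P.P.obj.map a.op (s i)) (P.P.obj.map k.op p)
  rw [← NatTrans.naturality_apply f.hom.hom k.op p, ← NatTrans.naturality_apply g.hom.hom k.op p, ← hc,
    f.map_smul, g.map_smul, NatTrans.naturality_apply f.hom.hom a.op,
    NatTrans.naturality_apply g.hom.hom a.op, h i]

/-- A pseudo-torsor with sections maps to any sheaf with action and sections cutting out the same cocycle. -/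
theorem exists_hom (hU : J.CoversTop U) {P Q : GSheaf G} (hP : P.IsPseudoTorsor)
    (s : ∀ i, P.P.obj.obj (op (U i))) (t : ∀ i, Q.P.obj.obj (op (U i)))
    (γ : PresheafOfGroups.OneCocycle G.obj U) (hs : P.IsCocycleOf U s γ) (ht : Q.IsCocycleOf U t γ) :
    ∃ f : P ⟶ Q, ∀ i, f.hom.hom.app _ (s i) = t i := by
  classical
  let cf : ∀ {T : C} (i : I) (a : T ⟶ U i) (p : P.P.obj.obj (op T)), G.obj.obj (op T) :=
    fun {T} i a p => (hP (op T) (P.P.obj.map a.op (s i)) p).choose
  have hcf : ∀ {T : C} (i : I) (a : T ⟶ U i) (p : P.P.obj.obj (op T)),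
      P.smul (cf i a p) (P.P.obj.map a.op (s i)) = p :=
    fun {T} i a p => (hP (op T) (P.P.obj.map a.op (s i)) p).choose_spec.1
  have hu : ∀ {T : C} (i : I) (a : T ⟶ U i) (p : P.P.obj.obj (op T)) (g : G.obj.obj (op T)),
      P.smul g (P.P.obj.map a.op (s i)) = p → g = cf i a p :=
    fun {T} i a p g hg => (hP (op T) (P.P.obj.map a.op (s i)) p).choose_spec.2 g hg
  let val : ∀ {T : C} (i : I) (a : T ⟶ U i) (p : P.P.obj.obj (op T)), Q.P.obj.obj (op T) :=
    fun i a p => Q.smul (cf i a p) (Q.P.obj.map a.op (t i))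
  have hval : ∀ {T : C} (i j : I) (a : T ⟶ U i) (b : T ⟶ U j) (p : P.P.obj.obj (op T)),
      val i a p = val j b p := by
    intro T i j a b p
    have : cf i a p * γ.ev i j a b = cf j b p :=
      hu j b p _ (by rw [P.mul_smul, hs i j a b, hcf])
    show _ = Q.smul (cf j b p) _
    rw [← this, Q.mul_smul, ht i j a b]
  have hvalmap : ∀ {T T' : C} (h : T' ⟶ T) (i : I) (a : T ⟶ U i) (p : P.P.obj.obj (op T)),
      Q.P.obj.map h.op (val i a p) = val i (h ≫ a) (P.P.obj.map h.op p) := by
    intro T T' h i a p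
    have : G.obj.map h.op (cf i a p) = cf i (h ≫ a) (P.P.obj.map h.op p) := by
      refine hu i _ _ _ ?_
      rw [op_comp, Functor.map_comp_apply, ← P.map_smul, hcf]
    simp only [val]
    rw [Q.map_smul, this, op_comp, Functor.map_comp_apply]
  have hQs := (isSheaf_iff_isSheaf_of_type _ _).1 Q.P.property
  have key : ∀ (V : C) (p : P.P.obj.obj (op V)), ∃ q : Q.P.obj.obj (op V),
      ∀ {T : C} (k : T ⟶ V) (i : I) (a : T ⟶ U i),
        Q.P.obj.map k.op q = val i a (P.P.obj.map k.op p) := by
    intro V p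
    let fam : Presieve.FamilyOfElements Q.P.obj (Sieve.ofObjects U V).arrows :=
      fun T k hk => val hk.choose hk.choose_spec.some (P.P.obj.map k.op p)
    have hc : fam.Compatible := by
      rw [Presieve.compatible_iff_sieveCompatible]
      intro T T' k h hk
      show val _ _ _ = Q.P.obj.map h.op (val _ _ _)
      rw [hvalmap, op_comp, Functor.map_comp_apply]
      exact hval _ _ _ _ _
    obtain ⟨q, hq, -⟩ := hQs _ (hU V) fam hc
    exact ⟨q, fun {T} k i a => (hq k ⟨i, ⟨a⟩⟩).trans (hval _ _ _ _ _)⟩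
  choose q hq using key
  refine ⟨⟨⟨{ app := fun V => TypeCat.ofHom (q V.unop), naturality := ?_ }⟩, ?_⟩, fun i => ?_⟩
  · intro V V' k
    ext p
    refine set_sep Q.P _ (hU V'.unop) fun T h hh => ?_
    obtain ⟨i, ⟨a⟩⟩ := hh
    show Q.P.obj.map h.op (q _ (P.P.obj.map k p)) = Q.P.obj.map h.op (Q.P.obj.map k (q _ p))
    rw [hq _ _ h i a]
    have h1 : Q.P.obj.map h.op (Q.P.obj.map k (q _ p)) = Q.P.obj.map (h ≫ k.unop).op (q _ p) := by
      rw [op_comp, Functor.map_comp_apply]; rfl
    have h2 : P.P.obj.map h.op (P.P.obj.map k p) = P.P.obj.map (h ≫ k.unop).op p := by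
      rw [op_comp, Functor.map_comp_apply]; rfl
    rw [h1, h2, hq _ _ _ i a]
  · intro V g p
    obtain ⟨V⟩ := V
    refine set_sep Q.P _ (hU V) fun T k hk => ?_
    obtain ⟨i, ⟨a⟩⟩ := hk
    show Q.P.obj.map k.op (q V (P.smul g p)) = Q.P.obj.map k.op (Q.smul g (q V p))
    rw [hq _ _ k i a, Q.map_smul, hq _ _ k i a, P.map_smul]
    show Q.smul (cf i a _) _ = _
    rw [← hu i a _ (G.obj.map k.op g * cf i a (P.P.obj.map k.op p)) (by rw [P.mul_smul, hcf]),
      Q.mul_smul]
  · show q (U i) (s i) = t i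
    refine set_sep Q.P _ (hU (U i)) fun T k hk => ?_
    rw [hq _ _ k i k]
    show Q.smul (cf i k _) _ = _
    rw [← hu i k _ 1 (P.one_smul _), Q.one_smul]

/-- The Čech class of a torsor on a family does not depend on the sections. -/
theorem existsUnique_hasCechClass (P : NonAbH1.Torsor G) (hP : P.TrivialisedBy U) :
    ∃! c : PresheafOfGroups.H1 G.obj U, P.HasCechClass U c := by
  have hT := P.isTorsor.1
  let s := fun i => (hP i).some
  refine existsUnique_of_exists_of_unique ?_ ?_
  · let e : ∀ (i j : I) {T : C} (a : T ⟶ U i) (b : T ⟶ U j), G.obj.obj (op T) :=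
      fun i j T a b => (hT (op T) (P.P.obj.map b.op (s j)) (P.P.obj.map a.op (s i))).choose
    have he : ∀ (i j : I) {T : C} (a : T ⟶ U i) (b : T ⟶ U j),
        P.smul (e i j a b) (P.P.obj.map b.op (s j)) = P.P.obj.map a.op (s i) :=
      fun i j T a b => (hT (op T) (P.P.obj.map b.op (s j)) (P.P.obj.map a.op (s i))).choose_spec.1
    have hu : ∀ (i j : I) {T : C} (a : T ⟶ U i) (b : T ⟶ U j) (g : G.obj.obj (op T)),
        P.smul g (P.P.obj.map b.op (s j)) = P.P.obj.map a.op (s i) → g = e i j a b :=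
      fun i j T a b g hg =>
        (hT (op T) (P.P.obj.map b.op (s j)) (P.P.obj.map a.op (s i))).choose_spec.2 g hg
    let γ : PresheafOfGroups.OneCocycle G.obj U :=
      { ev := fun i j T a b => e i j a b
        ev_precomp := fun i j T T' φ a b => hu _ _ _ _ _ (by
          rw [op_comp, Functor.map_comp_apply, ← P.map_smul, he, ← Functor.map_comp_apply, ← op_comp])
        ev_trans := fun i j k T a b c => hu _ _ _ _ _ (by rw [P.mul_smul, he, he]) }
    exact ⟨γ.class, s, γ, fun i j T a b => he i j a b, rfl⟩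
  · rintro c c' ⟨s₁, γ₁, h₁, rfl⟩ ⟨s₂, γ₂, h₂, rfl⟩
    choose α hα using fun i => (hT (op (U i)) (s₁ i) (s₂ i)).exists
    refine (PresheafOfGroups.OneCocycle.class_eq_iff _ _).mpr ⟨α, fun i j T a b => ?_⟩
    refine (hT (op T) (P.P.obj.map b.op (s₁ j)) (P.P.obj.map a.op (s₂ i))).unique ?_ ?_
    · rw [P.mul_smul, h₁ i j a b, ← P.map_smul, hα]
    · rw [P.mul_smul, ← P.map_smul, hα, h₂ i j a b]

/-- Torsors trivialised by a covering family with the same class are isomorphic. -/
theorem nonempty_iso (hU : J.CoversTop U) (P Q : NonAbH1.Torsor G) (c : PresheafOfGroups.H1 G.obj U)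
    (hPc : P.HasCechClass U c) (hQc : Q.HasCechClass U c) :
    Nonempty (P.toGSheaf ≅ Q.toGSheaf) := by
  obtain ⟨s, γ, hs, rfl⟩ := hPc
  obtain ⟨t, δ, ht, hδ⟩ := hQc
  obtain ⟨α, hα⟩ := (PresheafOfGroups.OneCocycle.class_eq_iff _ _).mp hδ
  -- `t' i := α i • t i` cuts out `γ`
  let t' : ∀ i, Q.P.obj.obj (op (U i)) := fun i => Q.smul (α i) (t i)
  have ht' : Q.IsCocycleOf U t' γ := fun i j T a b => by
    simp only [t', Q.map_smul]
    rw [← Q.mul_smul]
    show Q.smul (γ.ev i j a b * G.obj.map b.op (α j)) _ = _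
    rw [← hα i j a b, Q.mul_smul, ht i j a b]
  obtain ⟨f, hf⟩ := exists_hom hU P.isTorsor.1 s t' γ hs ht'
  obtain ⟨g, hg⟩ := exists_hom hU Q.isTorsor.1 t' s γ ht' hs
  refine ⟨⟨f, g, hom_ext hU P.isTorsor.1 s fun i => ?_, hom_ext hU Q.isTorsor.1 t' fun i => ?_⟩⟩
  · show g.hom.hom.app _ (f.hom.hom.app _ (s i)) = s i
    rw [hf, hg]
  · show f.hom.hom.app _ (g.hom.hom.app _ (t' i)) = t' i
    rw [hg, hf]

/-- Local coordinates of a section of the torsor twisted by a cocycle. -/
structure Fam (γ : PresheafOfGroups.OneCocycle G.obj U) (V : C) where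
  /-- the coordinate with respect to the `i`-th section -/
  x : ∀ (i : I) {T : C}, (T ⟶ V) → (T ⟶ U i) → G.obj.obj (op T)
  nat : ∀ (i : I) {T T' : C} (h : T' ⟶ T) (f : T ⟶ V) (a : T ⟶ U i),
    G.obj.map h.op (x i f a) = x i (h ≫ f) (h ≫ a)
  trans : ∀ (i j : I) {T : C} (f : T ⟶ V) (a : T ⟶ U i) (b : T ⟶ U j),
    x i f a * γ.ev i j a b = x j f b

variable {γ : PresheafOfGroups.OneCocycle G.obj U}

namespace Fam

theorem ext' {V : C} {y z : Fam γ V}
    (h : ∀ (i : I) (T : C) (f : T ⟶ V) (a : T ⟶ U i), y.x i f a = z.x i f a) : y = z := by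
  cases y; cases z
  simp only [Fam.mk.injEq]
  exact funext fun i => funext fun T => funext fun f => funext fun a => h i T f a

/-- Restriction. -/
def res {V V' : C} (k : V' ⟶ V) (y : Fam γ V) : Fam γ V' where
  x i _ f a := y.x i (f ≫ k) a
  nat i T T' h f a := by simp only [Category.assoc]; exact y.nat i h _ a
  trans i j _ f a b := y.trans i j _ a b

/-- Action by left multiplication. -/
def act {V : C} (g : G.obj.obj (op V)) (y : Fam γ V) : Fam γ V where
  x i T f a := G.obj.map f.op g * y.x i f a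
  nat i T T' h f a := by rw [map_mul, map_map, y.nat]
  trans i j T f a b := by rw [mul_assoc, y.trans]

theorem simply_transitive (hU : J.CoversTop U) {V : C} (y z : Fam γ V) :
    ∃! g, act g y = z := by
  refine existsUnique_of_exists_of_unique ?_ fun g g' hg hg' => ?_
  · have hval : ∀ {T : C} (f : T ⟶ V) (i j : I) (a : T ⟶ U i) (b : T ⟶ U j),
        z.x i f a * (y.x i f a)⁻¹ = z.x j f b * (y.x j f b)⁻¹ := by
      intro T f i j a b
      rw [← z.trans i j f a b, ← y.trans i j f a b]
      group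
    obtain ⟨g, hg⟩ := group_glue (G := G) (Sieve.ofObjects U V) (hU V)
      (fun T f hf => z.x hf.choose f hf.choose_spec.some * (y.x hf.choose f hf.choose_spec.some)⁻¹)
      (fun T T' f hf h => by
        rw [map_mul, map_inv, y.nat, z.nat]
        exact hval _ _ _ _ _)
    refine ⟨g, Fam.ext' fun i T f a => ?_⟩
    show G.obj.map f.op g * y.x i f a = z.x i f a
    rw [hg f ⟨i, ⟨a⟩⟩, hval f _ i _ a, inv_mul_cancel_right]
  · refine group_sep _ (hU V) fun T f hf => ?_
    obtain ⟨i, ⟨a⟩⟩ := hf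
    have := congrArg (fun w : Fam γ V => w.x i f a) (hg.trans hg'.symm)
    exact mul_right_cancel (show G.obj.map f.op g * y.x i f a = G.obj.map f.op g' * y.x i f a from this)

theorem small (hU : J.CoversTop U) (V : C) : Small.{w} (Fam γ V) := by
  by_cases h : Nonempty (Fam γ V)
  · obtain ⟨y⟩ := h
    exact small_of_surjective (f := fun g => act g y) fun z => (simply_transitive hU y z).exists
  · have : IsEmpty (Fam γ V) := not_nonempty_iff.mp h
    infer_instance

/-- The tautological section over `U i`. -/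
def base (i : I) : Fam γ (U i) where
  x j T f a := γ.ev i j f a
  nat j T T' h f a := γ.ev_precomp i j h f a
  trans j k T f a b := γ.ev_trans i j k f a b

theorem glue {V : C} (S : Sieve V) (hS : S ∈ J V)
    (y : ∀ ⦃T : C⦄ (f : T ⟶ V), S f → Fam γ T)
    (hy : ∀ ⦃T T' : C⦄ (f : T ⟶ V) (hf : S f) (h : T' ⟶ T),
      res h (y f hf) = y (h ≫ f) (S.downward_closed hf h)) :
    ∃! z : Fam γ V, ∀ ⦃T : C⦄ (f : T ⟶ V) (hf : S f), res f z = y f hf := by
  refine existsUnique_of_exists_of_unique ?_ fun z z' hz hz' => ?_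
  · have key : ∀ (i : I) {T : C} (f : T ⟶ V) (a : T ⟶ U i), ∃ c : G.obj.obj (op T),
        ∀ {T' : C} (h : T' ⟶ T) (hh : S (h ≫ f)),
          G.obj.map h.op c = (y (h ≫ f) hh).x i (𝟙 T') (h ≫ a) := by
      intro i T f a
      obtain ⟨c, hc⟩ := group_glue (G := G) (S.pullback f) (J.pullback_stable f hS)
        (fun T' h hh => (y (h ≫ f) hh).x i (𝟙 T') (h ≫ a))
        (fun T' T'' h hh l => by
          have e := hy (h ≫ f) hh l
          rw [(y (h ≫ f) hh).nat]
          have e' := congrArg (fun w : Fam γ T'' => w.x i (𝟙 T'') (l ≫ h ≫ a)) e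
          simp only [res, Category.id_comp] at e'
          simp only [Category.comp_id, Category.assoc]
          exact e')
      exact ⟨c, fun h hh => hc h hh⟩
    choose c hc using key
    refine ⟨⟨fun i T f a => c i f a, fun i T T' h f a => ?_, fun i j T f a b => ?_⟩, fun T f hf => ?_⟩
    · refine group_sep _ (J.pullback_stable (h ≫ f) hS) fun T'' l hl => ?_
      have hl' : S ((l ≫ h) ≫ f) := by rw [Category.assoc]; exact hl
      rw [map_map, hc i f a (l ≫ h) hl', hc i (h ≫ f) (h ≫ a) l hl]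
      simp only [Category.assoc]
    · refine group_sep _ (J.pullback_stable f hS) fun T' l hl => ?_
      rw [map_mul, hc i f a l hl, hc j f b l hl, γ.ev_precomp]
      exact (y (l ≫ f) hl).trans i j _ _ _
    · refine Fam.ext' fun i T' k a => ?_
      show c i (k ≫ f) a = (y f hf).x i k a
      have h := hc i (k ≫ f) a (𝟙 T') (by simpa using S.downward_closed hf k)
      rw [op_id, Functor.map_id_apply] at h
      rw [h]
      have e := congrArg (fun w : Fam γ T' => w.x i (𝟙 T') a) (hy f hf k)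
      simp only [res, Category.id_comp] at e
      simp only [Category.id_comp]
      exact e.symm
  · refine Fam.ext' fun i T f a => ?_
    refine group_sep _ (J.pullback_stable f hS) fun T' l hl => ?_
    rw [z.nat, z'.nat]
    have e := congrArg (fun w : Fam γ T' => w.x i (𝟙 T') (l ≫ a)) ((hz (l ≫ f) hl).trans (hz' (l ≫ f) hl).symm)
    simpa [res] using e

end Fam

/-- The torsor twisted by a cocycle. -/
theorem exists_torsor (hU : J.CoversTop U) (c : PresheafOfGroups.H1 G.obj U) :
    ∃ P : NonAbH1.Torsor G, P.TrivialisedBy U ∧ P.HasCechClass U c := by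
  induction c using Quot.ind with | _ γ
  have : ∀ V : C, Small.{w} (Fam γ V) := fun V => Fam.small hU V
  let F : Cᵒᵖ ⥤ Type w :=
    { obj := fun V => Shrink.{w} (Fam γ V.unop)
      map := fun {V V'} k => TypeCat.ofHom fun p => equivShrink _ (Fam.res k.unop ((equivShrink _).symm p))
      map_id := fun V => by
        refine ConcreteCategory.hom_ext _ _ fun p => ?_
        apply (equivShrink _).symm.injective
        refine Fam.ext' fun i T f a => ?_
        simp [Fam.res]
      map_comp := fun {V V' V''} k l => by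
        refine ConcreteCategory.hom_ext _ _ fun p => ?_
        apply (equivShrink _).symm.injective
        refine Fam.ext' fun i T f a => ?_
        simp [Fam.res] }
  have hF : Presheaf.IsSheaf J F := by
    rw [isSheaf_iff_isSheaf_of_type]
    intro V S hS fam hc
    rw [Presieve.compatible_iff_sieveCompatible] at hc
    obtain ⟨z, hz, hu⟩ := Fam.glue (γ := γ) S hS (fun T f hf => (equivShrink _).symm (fam f hf))
      (fun T T' f hf h => by
        have := congrArg (equivShrink _).symm (hc f h hf)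
        simpa [F] using this.symm)
    refine ⟨equivShrink _ z, fun T f hf => ?_, fun p hp => ?_⟩
    · show equivShrink _ (Fam.res f ((equivShrink _).symm (equivShrink _ z))) = fam f hf
      rw [Equiv.symm_apply_apply, hz f hf, Equiv.apply_symm_apply]
    · apply (equivShrink _).symm.injective
      rw [Equiv.symm_apply_apply]
      exact hu _ fun T f hf => by
        have := congrArg (equivShrink _).symm (hp f hf)
        simpa [F] using this
  let A : NonAbH1.GSheaf G :=
    { P := ⟨F, hF⟩
      smul := fun {V} g p => equivShrink _ (Fam.act g ((equivShrink _).symm p))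
      one_smul := fun {V} p => by
        apply (equivShrink _).symm.injective
        refine Fam.ext' fun i T f a => ?_
        simp [Fam.act]
      mul_smul := fun {V} g h p => by
        apply (equivShrink _).symm.injective
        refine Fam.ext' fun i T f a => ?_
        simp [Fam.act, mul_assoc]
      map_smul := fun {V V'} k g p => by
        apply (equivShrink _).symm.injective
        refine Fam.ext' fun i T f a => ?_
        simp [F, Fam.act, Fam.res] }
  have hA : A.IsPseudoTorsor := by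
    intro V p q
    obtain ⟨g, hg, hu⟩ := Fam.simply_transitive hU ((equivShrink _).symm p) ((equivShrink _).symm q)
    refine ⟨g, ?_, fun g' hg' => hu g' ?_⟩
    · show equivShrink _ (Fam.act g _) = q
      rw [hg, Equiv.apply_symm_apply]
    · rw [← hg']
      exact ((equivShrink _).symm_apply_apply _).symm
  let s : ∀ i, A.P.obj.obj (op (U i)) := fun i => equivShrink _ (Fam.base i)
  have hA' : A.LocallyNonempty := fun V => ⟨Sieve.ofObjects U V, hU V, by
    rintro T f ⟨i, ⟨a⟩⟩
    exact ⟨A.P.obj.map a.op (s i)⟩⟩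
  refine ⟨⟨A, hA, hA'⟩, fun i => ⟨s i⟩, s, γ, fun i j T a b => ?_, rfl⟩
  apply (equivShrink _).symm.injective
  refine Fam.ext' fun k T' f e => ?_
  simp [A, F, s, Fam.act, Fam.res, Fam.base]
  exact γ.ev_trans i j k _ _ e

end Groth.Agent.CechTorsor
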